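import Mathlib
import Groth.Agent.DvrDom.ClosedProper

/-!
# Monomorphisms with the dense lifting property are quasi-compact
-/

set_option autoImplicit false

universe u

open CategoryTheory CategoryTheory.Limits AlgebraicGeometry Topology TopologicalSpace

set_option backward.isDefEq.respectTransparency false

namespace Groth.Agent.DenseLiftQC

/-- a point in the image of a monomorphism locally of finite type lifts with its residue field -/
theorem exists_lift_field {Z V : Scheme.{u}} (h : Z ⟶ V) [Mono h] [LocallyOfFiniteType h] {K : Type u} [Field K]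
    (g : Spec (CommRingCat.of K) ⟶ V) (z : Z) (hz : h z = g (IsLocalRing.closedPoint K)) :
    ∃ q : Spec (CommRingCat.of K) ⟶ Z, q ≫ h = g := by
  have : Subsingleton ↥(Spec (CommRingCat.of K)) := inferInstanceAs (Subsingleton (PrimeSpectrum K))
  let d : pullback h g ⟶ Spec (CommRingCat.of K) := pullback.snd h g
  obtain ⟨w, -, -⟩ := Scheme.Pullback.exists_preimage_pullback (f := h) (g := g) z (IsLocalRing.closedPoint K) hz
  have : Surjective d := ⟨fun y => ⟨w, Subsingleton.elim _ _⟩⟩
  have : Mono d := inferInstanceAs (Mono (pullback.snd h g))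
  have : Subsingleton ↥(pullback h g) := ⟨fun a b => d.injective (Subsingleton.elim _ _)⟩
  have : QuasiCompact d := ⟨fun s _ _ => (Set.subsingleton_of_subsingleton.finite).isCompact⟩
  have : Flat d := by
    refine IsZariskiLocalAtSource.of_openCover (pullback h g).affineCover fun i => ?_
    obtain ⟨φ, hφ⟩ := Spec.map_surjective (((pullback h g).affineCover.X i).isoSpec.inv ≫
      (pullback h g).affineCover.f i ≫ d)
    rw [show (pullback h g).affineCover.f i ≫ d = ((pullback h g).affineCover.X i).isoSpec.hom ≫ Spec.map φ by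
        rw [hφ]; simp,
      MorphismProperty.cancel_left_of_respectsIso (P := @Flat), HasRingHomProperty.Spec_iff (P := @Flat)]
    algebraize [φ.hom]
    show Module.Flat _ _
    infer_instance
  have : IsIso d := Flat.isIso_of_surjective_of_mono d
  exact ⟨inv d ≫ pullback.fst h g, by rw [Category.assoc, pullback.condition, IsIso.inv_hom_id_assoc]⟩

/-- the dense lifting property -/
def HasDenseLift {Z V : Scheme.{u}} (h : Z ⟶ V) : Prop :=
  ∀ (A : Type u) [CommRing A] [IsDomain A] (g : Spec (CommRingCat.of A) ⟶ V) (D : Set ↥(Spec (CommRingCat.of A))),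
    Dense D → (∀ p ∈ D, ∃ q, q ≫ h = (Spec (CommRingCat.of A)).fromSpecResidueField p ≫ g) →
      ∃ U : (Spec (CommRingCat.of A)).Opens, (U : Set ↥(Spec (CommRingCat.of A))).Nonempty ∧
        ∃ l : U.toScheme ⟶ Z, l ≫ h = U.ι ≫ g

theorem quasiCompact_of_hasDenseLift {Z V : Scheme.{u}} (h : Z ⟶ V) [Mono h] [LocallyOfFiniteType h]
    [IsLocallyNoetherian V] (hc : HasDenseLift h) : QuasiCompact h := by
  refine quasiCompact_iff_forall_isAffineOpen.2 fun W hW => ?_
  have : IsAffine W.toScheme := hW
  have : IsNoetherian W.toScheme := {}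
  let i : W.toScheme ⟶ V := W.ι
  suffices H : ∀ T : Closeds ↥W.toScheme, IsCompact (h ⁻¹' (i '' (T : Set ↥W.toScheme))) by
    have h1 := H ⊤
    rw [Closeds.coe_top, Set.image_univ, show Set.range i = (W : Set V) from Scheme.Opens.range_ι W] at h1
    exact h1
  intro T
  induction T using WellFoundedLT.induction with
  | ind T IH =>
    by_cases hne : (T : Set ↥W.toScheme).Nonempty
    swap
    · rw [Set.not_nonempty_iff_eq_empty] at hne
      rw [hne, Set.image_empty, Set.preimage_empty]
      exact isCompact_empty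
    by_cases hirr : IsPreirreducible (T : Set ↥W.toScheme)
    swap
    · simp only [isPreirreducible_iff_isClosed_union_isClosed, not_forall, not_or] at hirr
      obtain ⟨A, B, hA, hB, hAB, hTA, hTB⟩ := hirr
      have hA' : (⟨_, T.isClosed.inter hA⟩ : Closeds ↥W.toScheme) < T :=
        lt_of_le_of_ne (fun x hx => hx.1) fun e => hTA fun x hx =>
          ((congrArg (fun S : Closeds ↥W.toScheme => (S : Set ↥W.toScheme)) e).ge hx).2
      have hB' : (⟨_, T.isClosed.inter hB⟩ : Closeds ↥W.toScheme) < T :=
        lt_of_le_of_ne (fun x hx => hx.1) fun e => hTB fun x hx =>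
          ((congrArg (fun S : Closeds ↥W.toScheme => (S : Set ↥W.toScheme)) e).ge hx).2
      have := (IH _ hA').union (IH _ hB')
      rw [← Set.preimage_union, ← Set.image_union] at this
      simp only [Closeds.coe_mk, ← Set.inter_union_distrib_left, Set.inter_eq_left.2 hAB] at this
      exact this
    let I := Scheme.IdealSheafData.vanishingIdeal T
    let T' := I.subscheme
    have hrange : Set.range I.subschemeι = (T : Set ↥W.toScheme) := by
      rw [Scheme.IdealSheafData.range_subschemeι, Scheme.IdealSheafData.coe_support_vanishingIdeal]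

    have : IsAffine T' := isAffine_of_isAffineHom I.subschemeι
    have : IrreducibleSpace ↥T' := by
      have h1 : IsIrreducible (Set.univ : Set ↥T') := by
        refine ⟨?_, ?_⟩
        · obtain ⟨x, hx⟩ := hne
          obtain ⟨y, -⟩ := hrange.ge hx
          exact ⟨y, trivial⟩
        · intro u v hu hv ⟨x, _, hxu⟩ ⟨y, _, hyv⟩
          obtain ⟨u', hu', rfl⟩ := I.subschemeι.isEmbedding.isInducing.isOpen_iff.1 hu
          obtain ⟨v', hv', rfl⟩ := I.subschemeι.isEmbedding.isInducing.isOpen_iff.1 hv
          obtain ⟨w, hw, hwu, hwv⟩ := hirr u' v' hu' hv' ⟨_, hrange.le ⟨x, rfl⟩, hxu⟩ ⟨_, hrange.le ⟨y, rfl⟩, hyv⟩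
          obtain ⟨z, rfl⟩ := hrange.ge hw
          exact ⟨z, trivial, hwu, hwv⟩
      exact { toPreirreducibleSpace := ⟨h1.2⟩, toNonempty := ⟨h1.1.some⟩ }
    have : IsReduced T' := DvrDom.isReduced_vanishingIdeal_subscheme T
    have : IsIntegral T' := isIntegral_of_irreducibleSpace_of_isReduced T'
    let A := Γ(T', ⊤)
    let k : Spec (CommRingCat.of A) ⟶ W.toScheme := T'.isoSpec.inv ≫ I.subschemeι
    have hk : Set.range k = (T : Set ↥W.toScheme) := by
      rw [← hrange]
      show Set.range (I.subschemeι ∘ T'.isoSpec.inv) = _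
      exact (show Function.Surjective T'.isoSpec.inv from T'.isoSpec.inv.homeomorph.surjective).range_comp _
    let D : Set ↥(Spec (CommRingCat.of A)) := {p | (k ≫ i) p ∈ Set.range h}
    have hA : IsNoetherianRing A := by
      have : IsLocallyNoetherian T' := LocallyOfFiniteType.isLocallyNoetherian I.subschemeι
      exact IsLocallyNoetherian.component_noetherian ⟨⊤, isAffineOpen_top T'⟩
    have : NoetherianSpace ↥(Spec (CommRingCat.of A)) := inferInstanceAs (NoetherianSpace (PrimeSpectrum A))
    by_cases hD : Dense D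
    · obtain ⟨U, hU, l, hl⟩ := hc A (k ≫ i) D hD fun p hp => by
        obtain ⟨z, hz⟩ := hp
        refine exists_lift_field h _ z (hz.trans ?_)
        show (k ≫ i) p = ((Spec A).fromSpecResidueField p ≫ (k ≫ i)) _
        rw [Scheme.Hom.comp_apply ((Spec A).fromSpecResidueField p)]
        exact congrArg (k ≫ i) ((Spec A).fromSpecResidueField_apply p _).symm
      have hkc : IsClosedMap k := k.isClosedEmbedding.isClosedMap
      have hlt : (⟨_, hkc _ U.2.isClosed_compl⟩ : Closeds ↥W.toScheme) < T :=
        lt_of_le_of_ne (fun x ⟨y, _, hy⟩ => hk.le ⟨y, hy⟩) fun e => by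
          obtain ⟨u, hu⟩ := hU
          obtain ⟨y, hy, hyu⟩ := (congrArg (fun S : Closeds ↥W.toScheme => (S : Set ↥W.toScheme)) e).ge
            (hk.le ⟨u, rfl⟩)
          exact hy (k.isClosedEmbedding.injective hyu ▸ hu)
      have : h ⁻¹' (i '' (T : Set ↥W.toScheme)) = h ⁻¹' (i '' (k '' (U : Set ↥(Spec (CommRingCat.of A)))ᶜ)) ∪ Set.range l := by
        ext z
        constructor
        · rintro ⟨x, hx, hxz⟩
          obtain ⟨y, rfl⟩ := hk.ge hx
          by_cases hy : y ∈ U
          · refine Or.inr ⟨⟨y, hy⟩, h.injective ?_⟩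
            rw [← Scheme.Hom.comp_apply, hl]
            exact hxz
          · exact Or.inl ⟨k y, ⟨y, hy, rfl⟩, hxz⟩
        · rintro (⟨x, ⟨y, -, rfl⟩, hxz⟩ | ⟨u, rfl⟩)
          · exact ⟨k y, hk.le ⟨y, rfl⟩, hxz⟩
          · refine ⟨k u.1, hk.le ⟨u.1, rfl⟩, ?_⟩
            rw [← Scheme.Hom.comp_apply l h, hl]
            rfl
      rw [this]
      have : CompactSpace ↥U.toScheme := isCompact_iff_compactSpace.1 (NoetherianSpace.isCompact (U : Set ↥(Spec (CommRingCat.of A))))
      exact (IH _ hlt).union (isCompact_range l.continuous)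
    · have hlt : (⟨_, k.isClosedEmbedding.isClosedMap _ (isClosed_closure (s := D))⟩ : Closeds ↥W.toScheme) < T :=
        lt_of_le_of_ne (fun x ⟨y, _, hy⟩ => hk.le ⟨y, hy⟩) fun e => hD fun y => by
          obtain ⟨y', hy', hyy⟩ := (congrArg (fun S : Closeds ↥W.toScheme => (S : Set ↥W.toScheme)) e).ge
            (hk.le ⟨y, rfl⟩)
          exact k.isClosedEmbedding.injective hyy ▸ hy'
      convert IH _ hlt using 1
      ext z
      constructor
      · rintro ⟨x, hx, hxz⟩
        obtain ⟨y, rfl⟩ := hk.ge hx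
        exact ⟨k y, ⟨y, subset_closure ⟨z, hxz.symm⟩, rfl⟩, hxz⟩
      · rintro ⟨x, ⟨y, -, rfl⟩, hxz⟩
        exact ⟨k y, hk.le ⟨y, rfl⟩, hxz⟩

end Groth.Agent.DenseLiftQC
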