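import Mathlib
import Groth.Agent.DenseLiftQC.Scheme
import Groth.Agent.LqfRep.Ring
import Groth.Agent.HTopV.SubtrusiveApps
import Groth.Agent.FpqcDescent.Immersion

/-!
# Quasi-compact monomorphisms with the lifting property for discrete valuation rings are immersions
-/

set_option autoImplicit false

universe u

open CategoryTheory CategoryTheory.Limits AlgebraicGeometry Topology TopologicalSpace
open scoped TensorProduct

set_option backward.isDefEq.respectTransparency false
set_option backward.isDefEq.respectTransparency.types false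

namespace Groth.Agent.DenseLiftQC

/-- the lifting property for specialisations given by discrete valuation rings -/
def HasDvrLift {Z V : Scheme.{u}} (h : Z ⟶ V) : Prop :=
  ∀ (A : Type u) [CommRing A] [IsDomain A] [IsDiscreteValuationRing A] (g : Spec (CommRingCat.of A) ⟶ V),
    g (⟨⊥, Ideal.isPrime_bot⟩ : PrimeSpectrum A) ∈ Set.range h → g (IsLocalRing.closedPoint A) ∈ Set.range h →
      ∃ l, l ≫ h = g

theorem isPullback_comp_mono {C : Type*} [Category C] {P X Y T T' : C} {a : P ⟶ X} {b : P ⟶ Y} {f : X ⟶ T}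
    {g : Y ⟶ T} (sq : IsPullback a b f g) (i : T ⟶ T') [Mono i] : IsPullback a b (f ≫ i) (g ≫ i) :=
  { w := by rw [reassoc_of% sq.w]
    isLimit' := ⟨PullbackCone.IsLimit.mk _
      (fun s => sq.lift s.fst s.snd ((cancel_mono i).1 (by simpa using s.condition)))
      (fun s => sq.lift_fst _ _ _) (fun s => sq.lift_snd _ _ _)
      (fun s m h1 h2 => sq.hom_ext (by simpa using h1) (by simpa using h2))⟩ }

/-- near each of its points, a monomorphism with the lifting property is a closed immersion -/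
theorem exists_closedImmersion_nhd {Z V : Scheme.{u}} (h : Z ⟶ V) [Mono h] [LocallyOfFiniteType h]
    [QuasiCompact h] [IsLocallyNoetherian V] (hd : HasDvrLift h) (z : Z) :
    ∃ W : V.Opens, h z ∈ W ∧ IsClosedImmersion (h ∣_ W) := by
  have : LocallyQuasiFinite h := LocallyQuasiFinite.of_injective h.injective
  obtain ⟨W, hW, hzW, -⟩ := exists_isAffineOpen_mem_and_subset (show h z ∈ (⊤ : V.Opens) from trivial)
  obtain ⟨U, hU, hzU, hUW⟩ := exists_isAffineOpen_mem_and_subset (show z ∈ h ⁻¹ᵁ W from hzW)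
  let A := Γ(V, W)
  let B := Γ(Z, U)
  let φ : A ⟶ B := h.appLE W U hUW
  algebraize [φ.hom]
  have : IsNoetherianRing A := IsLocallyNoetherian.component_noetherian ⟨W, hW⟩
  have : Algebra.FiniteType A B :=
    HasRingHomProperty.appLE @LocallyOfFiniteType h inferInstance ⟨W, hW⟩ ⟨U, hU⟩ hUW
  have : Algebra.QuasiFinite A B :=
    HasRingHomProperty.appLE @LocallyQuasiFinite h inferInstance ⟨W, hW⟩ ⟨U, hU⟩ hUW
  let q : PrimeSpectrum B := hU.primeIdealOf ⟨z, hzU⟩
  obtain ⟨A', _, _, _, P, hP, e, -, P', hP', hPP, hPq, he, hfin, -, -⟩ :=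
    LqfRep.exists_etale_piece (A := A) q.asIdeal
  have : IsNoetherianRing A' := Algebra.FiniteType.isNoetherianRing A A'
  let u : Spec (CommRingCat.of A') ⟶ V := Spec.map (CommRingCat.ofHom (algebraMap A A')) ≫ hW.fromSpec
  let iL : CommRingCat.of A' ⟶ CommRingCat.of (A' ⊗[A] B) := CommRingCat.ofHom Algebra.TensorProduct.includeLeftRingHom
  let iR : CommRingCat.of B ⟶ CommRingCat.of (A' ⊗[A] B) :=
    CommRingCat.ofHom (Algebra.TensorProduct.includeRight (R := A) (A := A') (B := B)).toRingHom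
  have sq : IsPullback (Spec.map iL) (Spec.map iR) (Spec.map (CommRingCat.ofHom (algebraMap A A')))
      (Spec.map φ) :=
    isPullback_SpecMap_of_isPushout _ _ _ _ (CommRingCat.isPushout_tensorProduct A A' B)
  have sq' : IsPullback (Spec.map iR) (Spec.map iL) (hU.fromSpec ≫ h) u := by
    rw [← IsAffineOpen.SpecMap_appLE_fromSpec h hW hU hUW]
    exact isPullback_comp_mono sq.flip hW.fromSpec
  let c : Spec (CommRingCat.of (A' ⊗[A] B)) ⟶ pullback h u :=
    pullback.lift (Spec.map iR ≫ hU.fromSpec) (Spec.map iL) (by rw [Category.assoc, sq'.w])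
  have sqc : IsPullback (Spec.map iR) c hU.fromSpec (pullback.fst h u) := by
    refine IsPullback.of_bot ?_ (pullback.lift_fst _ _ _).symm (IsPullback.of_hasPullback h u)
    simpa [c] using sq'
  have : IsOpenImmersion c := MorphismProperty.of_isPullback (P := @IsOpenImmersion) sqc inferInstance
  let ρ : CommRingCat.of (A' ⊗[A] B) ⟶ CommRingCat.of (Localization.Away e) :=
    CommRingCat.ofHom (algebraMap (A' ⊗[A] B) (Localization.Away e))
  have : IsOpenImmersion (Spec.map ρ) := IsOpenImmersion.of_isLocalization e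
  let j : Spec (CommRingCat.of (Localization.Away e)) ⟶ pullback h u := Spec.map ρ ≫ c
  let h' : pullback h u ⟶ Spec (CommRingCat.of A') := pullback.snd h u
  have : Mono h' := inferInstanceAs (Mono (pullback.snd h u))
  have : IsFinite (j ≫ h') := by
    rw [show j ≫ h' = Spec.map (iL ≫ ρ) by simp [j, c, h'], IsFinite.SpecMap_iff]
    exact RingHom.finite_algebraMap.2 hfin
  have hcl : IsClosedImmersion (j ≫ h') := (IsClosedImmersion.iff_isFinite_and_mono _).2 ⟨inferInstance, inferInstance⟩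
  have : IsSeparated h' := inferInstance
  have : IsClosedImmersion j := IsClosedImmersion.of_comp j h'
  let pt : ↥(Spec (CommRingCat.of A')) := (⟨P, hP⟩ : PrimeSpectrum A')
  let z' : ↥(pullback h u) := c (⟨P', hP'⟩ : PrimeSpectrum (A' ⊗[A] B))
  have hz'j : z' ∈ Set.range j := by
    obtain ⟨w, hw⟩ := (PrimeSpectrum.localization_away_comap_range (Localization.Away e) e).ge
      (show (⟨P', hP'⟩ : PrimeSpectrum (A' ⊗[A] B)) ∈ (PrimeSpectrum.basicOpen e : Set _) from he)
    exact ⟨w, congrArg c hw⟩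
  have hz'P : h' z' = (⟨P, hP⟩ : PrimeSpectrum A') := by
    show h' (c _) = _
    rw [← Scheme.Hom.comp_apply, show c ≫ h' = Spec.map iL from pullback.lift_snd _ _ _]
    exact PrimeSpectrum.ext hPP.over.symm
  have hz'z : pullback.fst h u z' = z := by
    show pullback.fst h u (c _) = z
    rw [← Scheme.Hom.comp_apply, show c ≫ pullback.fst h u = Spec.map iR ≫ hU.fromSpec from pullback.lift_fst _ _ _,
      Scheme.Hom.comp_apply, show Spec.map iR (⟨P', hP'⟩ : PrimeSpectrum (A' ⊗[A] B)) = q from PrimeSpectrum.ext hPq]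
    exact hU.fromSpec_primeIdealOf ⟨z, hzU⟩
  -- the rest of the fibre product stays away from `P`
  have : IsLocallyNoetherian (pullback h u) := LocallyOfFiniteType.isLocallyNoetherian h'
  let R : (pullback h u).Opens := ⟨(Set.range j)ᶜ, j.isClosedEmbedding.isClosed_range.isOpen_compl⟩
  have hRP : (⟨P, hP⟩ : PrimeSpectrum A') ∉ closure (Set.range (R.ι ≫ h')) := fun hcl' => by
    obtain ⟨y, hy⟩ := FpqcDescent.exists_specializes_of_mem_closure (R.ι ≫ h') hcl'
    have hyj : R.ι y ∉ Set.range j := y.2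
    have hne : (⟨P, hP⟩ : PrimeSpectrum A') ≠ h' (R.ι y) := fun e0 =>
      hyj (h'.injective (hz'P.trans e0) ▸ hz'j)
    obtain ⟨D, _, _, _, t, ht0, ht1⟩ := HTopV.exists_spec_dvr (Z := Spec (CommRingCat.of A')) hy hne
    have hmem : ∀ w, h' w ∈ Set.range t → u (h' w) ∈ Set.range h := fun w _ => ⟨pullback.fst h u w, by
      rw [← Scheme.Hom.comp_apply, pullback.condition, Scheme.Hom.comp_apply]⟩
    obtain ⟨l, hl⟩ := hd D (t ≫ u)
      (by rw [Scheme.Hom.comp_apply, ht0, Scheme.Hom.comp_apply]; exact hmem _ ⟨_, ht0.trans (Scheme.Hom.comp_apply _ _ _)⟩)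
      (by rw [Scheme.Hom.comp_apply, ht1, ← hz'P]; exact hmem _ ⟨_, ht1.trans hz'P.symm⟩)
    let l' : Spec (CommRingCat.of D) ⟶ pullback h u := pullback.lift l t hl
    have hl' : ∀ d, h' (l' d) = t d := fun d => by
      rw [← Scheme.Hom.comp_apply, show l' ≫ h' = t from pullback.lift_snd _ _ _]
    have h0 : l' (⟨⊥, Ideal.isPrime_bot⟩ : PrimeSpectrum D) = R.ι y :=
      h'.injective ((hl' _).trans (ht0.trans (Scheme.Hom.comp_apply _ _ _)))
    have h1 : l' (IsLocalRing.closedPoint D) = z' := h'.injective ((hl' _).trans (ht1.trans hz'P.symm))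
    have hsp := (IsLocalRing.specializes_closedPoint (⟨⊥, Ideal.isPrime_bot⟩ : PrimeSpectrum D)).map l'.continuous
    rw [h0, h1] at hsp
    exact hyj (hsp.mem_open j.isOpenEmbedding.isOpen_range hz'j)
  let W' : (Spec (CommRingCat.of A')).Opens := ⟨(closure (Set.range (R.ι ≫ h')))ᶜ, isClosed_closure.isOpen_compl⟩
  have : IsClosedImmersion (h' ∣_ W') := by
    have : Surjective (j ∣_ (h' ⁻¹ᵁ W')) := ⟨fun w => by
      let w' : ↥(pullback h u) := (h' ⁻¹ᵁ W').ι w
      have : w' ∈ Set.range j := by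
        by_contra hwn
        exact w.2 (subset_closure ⟨(⟨w', hwn⟩ : R.toScheme), Scheme.Hom.comp_apply _ _ _⟩)
      obtain ⟨v, hv⟩ := this
      exact ⟨⟨v, show j v ∈ h' ⁻¹ᵁ W' from hv ▸ w.2⟩, Subtype.ext ((morphismRestrict_base_coe _ _ _).trans hv)⟩⟩
    have : IsIso (j ∣_ (h' ⁻¹ᵁ W')) := by
      rw [isIso_iff_isOpenImmersion_and_surjective]
      exact ⟨inferInstance, inferInstance⟩
    have h1 : IsClosedImmersion ((j ≫ h') ∣_ W') := inferInstance
    rw [morphismRestrict_comp] at h1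
    exact (MorphismProperty.cancel_left_of_respectsIso (P := @IsClosedImmersion) (j ∣_ (h' ⁻¹ᵁ W')) (h' ∣_ W')).1 h1
  -- descend along the image
  have : Etale (Spec.map (CommRingCat.ofHom (algebraMap A A'))) :=
    (HasRingHomProperty.Spec_iff (P := @Etale)).2 (RingHom.etale_algebraMap.2 inferInstance)
  have : Etale u := inferInstanceAs (Etale (_ ≫ _))
  let W₀ : V.Opens := ⟨Set.range (W'.ι ≫ u), (W'.ι ≫ u).isOpenMap.isOpen_range⟩
  let π : W'.toScheme ⟶ W₀.toScheme := IsOpenImmersion.lift W₀.ι (W'.ι ≫ u) (by rw [Scheme.Opens.range_ι]; exact subset_rfl)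
  have hπ : π ≫ W₀.ι = W'.ι ≫ u := IsOpenImmersion.lift_fac _ _ _
  refine ⟨W₀, ⟨(⟨pt, hRP⟩ : W'.toScheme), ?_⟩, ?_⟩
  · rw [Scheme.Hom.comp_apply, ← hz'z, ← Scheme.Hom.comp_apply _ h, pullback.condition, Scheme.Hom.comp_apply]
    exact congrArg u hz'P.symm
  have : Etale (π ≫ W₀.ι) := hπ ▸ inferInstance
  have : Etale π := Etale.of_comp π W₀.ι
  have : Surjective π := ⟨fun w => by
    obtain ⟨v, hv⟩ := w.2
    refine ⟨v, W₀.ι.isOpenEmbedding.injective ?_⟩
    rw [← Scheme.Hom.comp_apply, hπ]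
    exact hv⟩
  have : CompactSpace ↥W'.toScheme :=
    isCompact_iff_compactSpace.1 (by
      have : NoetherianSpace ↥(Spec (CommRingCat.of A')) := inferInstanceAs (NoetherianSpace (PrimeSpectrum A'))
      exact NoetherianSpace.isCompact _)
  have : IsLocallyNoetherian W₀.toScheme := LocallyOfFiniteType.isLocallyNoetherian W₀.ι
  have : QuasiCompact π := inferInstance
  have sq1 := (isPullback_morphismRestrict h' W').flip.paste_horiz (IsPullback.of_hasPullback h u)
  have sqp : IsPullback (IsOpenImmersion.lift (h ⁻¹ᵁ W₀).ι ((h' ⁻¹ᵁ W').ι ≫ pullback.fst h u) (by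
      rw [Scheme.Opens.range_ι]
      rintro _ ⟨w, rfl⟩
      refine ⟨⟨h' w.1, w.2⟩, ?_⟩
      rw [Scheme.Hom.comp_apply, ← Scheme.Hom.comp_apply _ h, Category.assoc, pullback.condition]
      rfl)) (h' ∣_ W') (h ∣_ W₀) π := by
    refine IsPullback.of_right ?_ ?_ (isPullback_morphismRestrict h W₀).flip
    · rw [IsOpenImmersion.lift_fac, hπ]
      exact sq1
    · rw [← cancel_mono W₀.ι, Category.assoc, morphismRestrict_ι, IsOpenImmersion.lift_fac_assoc, Category.assoc,
        Category.assoc, hπ, morphismRestrict_ι_assoc, pullback.condition]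
  exact MorphismProperty.of_isPullback_of_descendsAlong (P := @IsClosedImmersion)
    (Q := @Surjective ⊓ @Flat ⊓ @QuasiCompact) sqp.flip ⟨⟨inferInstance, inferInstance⟩, inferInstance⟩ inferInstance

/-- a quasi-compact monomorphism with the lifting property for discrete valuation rings is an immersion -/
theorem isImmersion_of_hasDvrLift {Z V : Scheme.{u}} (h : Z ⟶ V) [Mono h] [LocallyOfFiniteType h]
    [QuasiCompact h] [IsLocallyNoetherian V] (hd : HasDvrLift h) : IsImmersion h := by
  choose W hzW hW using exists_closedImmersion_nhd h hd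
  let T : V.Opens := ⨆ z, W z
  have hT : h ⁻¹ᵁ T = ⊤ := eq_top_iff.2 fun z _ => TopologicalSpace.Opens.mem_iSup.2 ⟨z, hzW z⟩
  have : IsClosedImmersion (h ∣_ T) := by
    refine IsZariskiLocalAtTarget.of_iSup_eq_top (P := @IsClosedImmersion) (fun z => T.ι ⁻¹ᵁ W z)
      (eq_top_iff.2 fun t _ => ?_) fun z => ?_
    · obtain ⟨z, hz⟩ := TopologicalSpace.Opens.mem_iSup.1 t.2
      exact TopologicalSpace.Opens.mem_iSup.2 ⟨z, hz⟩
    · refine ((MorphismProperty.arrow_mk_iso_iff @IsClosedImmersion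
        ((morphismRestrictRestrict h T (T.ι ⁻¹ᵁ W z)) ≪≫ morphismRestrictEq h ?_))).2 (hW z)
      refine TopologicalSpace.Opens.ext (Set.ext fun v => ⟨?_, fun hv => ?_⟩)
      · rintro ⟨t, ht, rfl⟩
        exact ht
      · exact ⟨⟨v, (le_iSup W z) hv⟩, hv, rfl⟩
  have e : h = ((Scheme.topIso Z).inv ≫ (Z.isoOfEq hT).inv ≫ (h ∣_ T)) ≫ T.ι := by
    simp
  rw [e]
  infer_instance

end Groth.Agent.DenseLiftQC
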