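import Groth.Agent.DenseLiftQC.Scheme
import Groth.Agent.AlgStLib.Noeth
import Groth.Agent.AlgStLib.DiagProps
import Groth.Agent.AlgStLib.QC2
import Groth.Agent.AlgStLib.LiftFamily
import Groth.Agent.LqfRep.Main
import Groth.Agent.UnivInjMor.MonoUnram

/-!
# Dense lifting makes monomorphisms of stacks quasi-compact
-/

set_option autoImplicit false
set_option backward.isDefEq.respectTransparency false
set_option backward.isDefEq.respectTransparency.types false
universe u

noncomputable section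

namespace Groth.Agent.DenseLiftQC

open CategoryTheory CategoryTheory.Limits AlgebraicGeometry Opposite Groth.Agent.FibCatRep
  Groth.Agent.FibCat2Misc Groth.Agent.AlgSpLib Groth.Agent.StkBasic TopologicalSpace Groth.Agent.AlgStLib
open _root_.AlgSp _root_.AlgSt

variable {S : Scheme.{u}}

theorem respectsIso_locP (P : MorphismProperty Scheme.{u}) [P.RespectsIso] :
    (LocP (S := S) P).RespectsIso := by
  apply MorphismProperty.RespectsIso.of_respects_arrow_iso
  intro p q e hp U V a b h ha hb comm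
  have w : e.inv.left ≫ p.hom = q.hom ≫ e.inv.right := e.inv.w
  exact hp (a ≫ e.inv.left) (b ≫ e.inv.right) h ((repWith_comp_iso_iff a e.inv.left).2 ha)
    ((repWith_comp_iso_iff b e.inv.right).2 hb) (by rw [Category.assoc, w, reassoc_of% comm])

/-- quasi-compactness of a monomorphism of spaces with the dense lifting property -/
theorem isQuasiCompactMor_of_denseLift {F : Sp S} (hF : IsAlgSpace F) {V : Over S} [IsLocallyNoetherian V.left]
    (a : F ⟶ (yon S).obj V) [Mono a] (ha : LocP @LocallyOfFinitePresentation a)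
    (hc : ∀ (A : Type u) [CommRing A] [IsDomain A] (sA : Spec (CommRingCat.of A) ⟶ S) (g : Over.mk sA ⟶ V)
      (D : Set ↥(Spec (CommRingCat.of A))), Dense D →
      (∀ p ∈ D, ∃ q : (yon S).obj (Over.mk ((Spec (CommRingCat.of A)).fromSpecResidueField p ≫ sA)) ⟶ F,
        q ≫ a = (yon S).map ((Over.homMk ((Spec (CommRingCat.of A)).fromSpecResidueField p) rfl :
          Over.mk ((Spec (CommRingCat.of A)).fromSpecResidueField p ≫ sA) ⟶ Over.mk sA) ≫ g)) →
      ∃ U : (Spec (CommRingCat.of A)).Opens, (U : Set ↥(Spec (CommRingCat.of A))).Nonempty ∧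
        ∃ l : (yon S).obj (Over.mk (U.ι ≫ sA)) ⟶ F,
          l ≫ a = (yon S).map ((Over.homMk U.ι rfl : Over.mk (U.ι ≫ sA) ⟶ Over.mk sA) ≫ g)) :
    AlgSp.IsQuasiCompactMor a := by
  have hV := IsAlgSpace.yon_obj (S := S) V
  have hft : LocP @LocallyOfFiniteType a := fun X Y c d k hc' hd e => by
    have : LocallyOfFinitePresentation k.left := ha c d k hc' hd e
    show LocallyOfFiniteType k.left
    infer_instance
  have hl : LocP (@LocallyQuasiFinite ⊓ @LocallyOfFiniteType : MorphismProperty Scheme.{u}) a :=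
    UnivInjMor.lqf_of_mono hF hV a hft
  obtain ⟨W, ⟨φ⟩⟩ := LqfRep.exists_iso_yon_of_lqf_separated hF a hl (LqfRep.isSeparatedMor_of_mono _)
  obtain ⟨h, hh⟩ := exists_map_eq (φ.inv ≫ a)
  have hlfp : LocallyOfFinitePresentation h.left :=
    ha φ.inv (𝟙 _) h (repWith_of_isIso _) repWith_id' (by rw [Category.comp_id, hh])
  have : Mono ((yon S).map h) := hh ▸ inferInstance
  have : Mono h := (yon S).mono_of_mono_map inferInstance
  have : Mono h.left := mono_left h
  have : QuasiCompact h.left := quasiCompact_of_hasDenseLift h.left fun A _ _ g D hD hp => by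
    let g' : Over.mk (g ≫ V.hom) ⟶ V := Over.homMk g rfl
    obtain ⟨U, hU, l, hl⟩ := hc A (g ≫ V.hom) g' D hD fun p hp' => by
      obtain ⟨q, hq⟩ := hp p hp'
      refine ⟨(yon S).map (Over.homMk q (by
        show q ≫ W.hom = (Spec (CommRingCat.of A)).fromSpecResidueField p ≫ g ≫ V.hom
        rw [← Over.w h, reassoc_of% hq]) : _ ⟶ W) ≫ φ.inv, ?_⟩
      rw [Category.assoc, ← hh, ← Functor.map_comp]
      congr 1
      exact Over.OverMorphism.ext hq
    obtain ⟨m, hm⟩ := exists_map_eq (l ≫ φ.hom)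
    refine ⟨U, hU, m.left, ?_⟩
    have : m ≫ h = Over.homMk U.ι rfl ≫ g' := (yon S).map_injective (by
      rw [Functor.map_comp, hm, hh, Category.assoc, Iso.hom_inv_id_assoc, hl])
    exact congrArg (fun k => k.left) this
  haveI := respectsIso_quasiCompact (S := S)
  refine (MorphismProperty.cancel_left_of_respectsIso (AlgSp.IsQuasiCompactMor (S := S)) φ.inv a).1 ?_
  rw [← hh]
  exact (isQuasiCompactMor_iff_repWith (IsAlgSpace.yon_obj W) hV (representable_yon_map h)).2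
    ((repWith_yon_iff h).2 inferInstance)

variable {𝒳 𝒴 : AlgSt.Cat S}

local notation "AS" => IsAlgStack Scheme.fppfPrecoverage

theorem repWith_qc_of_denseLift (h𝒳 : AS 𝒳) (h𝒴 : AS 𝒴)
    (hnoeth : AlgSt.SmoothLocally (fun X => IsLocallyNoetherian X) 𝒳) (f : 𝒴 ⥤ᵇ 𝒳)
    (hlfp : RepByAlgSpWith (LocP @LocallyOfFinitePresentation) f) (ha : AlgSt.IsMono f)
    (hc : ∀ (A : Type u) [CommRing A] [IsDomain A] (sA : Spec (CommRingCat.of A) ⟶ S)
      (a : FibCat.overCat (Over.mk sA) ⥤ᵇ 𝒳) (D : Set ↥(Spec (CommRingCat.of A))), Dense D →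
      (∀ p ∈ D, ∃ yp : FibCat.overCat (Over.mk ((Spec (CommRingCat.of A)).fromSpecResidueField p ≫ sA)) ⥤ᵇ 𝒴,
          Nonempty (BasedFunctor.comp yp f ≅ BasedFunctor.comp (AlgSt.overMap (Over.homMk ((Spec (CommRingCat.of A)).fromSpecResidueField p) rfl : Over.mk (((Spec (CommRingCat.of A)).fromSpecResidueField p) ≫ sA) ⟶ Over.mk sA)) a)) →
      ∃ U : (Spec (CommRingCat.of A)).Opens, (U : Set ↥(Spec (CommRingCat.of A))).Nonempty ∧
        ∃ yU : FibCat.overCat (Over.mk (U.ι ≫ sA)) ⥤ᵇ 𝒴,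
          Nonempty (BasedFunctor.comp yU f ≅ BasedFunctor.comp (AlgSt.overMap (Over.homMk (U.ι) rfl : Over.mk ((U.ι) ≫ sA) ⟶ Over.mk sA)) a)) :
    RepByAlgSpWith AlgSp.IsQuasiCompactMor f := by
  obtain ⟨V, y, hy, hy'⟩ := exists_atlas_sp h𝒳
  haveI : IsLocallyNoetherian V.left :=
    hnoeth V (BasedFunctor.comp (AlgSt.ofOverCat V) y) ((repWith_ofOverCat_iff _ y).2 hy)
  haveI := respectsIso_locP (S := S) @LocallyOfFinitePresentation
  obtain ⟨P, e, he, hP, hPA, hmono, hl⟩ :=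
    (repWith_iff (MorphismProperty.monomorphisms (AlgSp.Sp S) ⊓ LocP @LocallyOfFinitePresentation) f).1
      (repWith_and ha hlfp) V y
  let a : (⟨P, hP⟩ : Sp S) ⟶ (spOf V).obj := ObjectProperty.homMk (prjMap e)
  haveI : Mono (a : (⟨P, hP⟩ : Sp S) ⟶ (yon S).obj V) := hmono
  refine (repWith_iff_exists_model cls_qc.bc cls_qc.loc h𝒴 h𝒳 f (spOf V) y (repWith_flat_of_smooth hy)
    (repWith_lfp_of_smooth hy) hy').2 ⟨⟨⟨P, hP⟩, hPA⟩, ObjectProperty.homMk a, e, he, ⟨(mapOfIso _).symm⟩, ?_⟩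
  refine isQuasiCompactMor_of_denseLift hPA a hl fun A _ _ sA g D hD hp => ?_
  -- maps from a slice into the chart
  have iso : ∀ {T : Over S} (γ : T ⟶ V),
      Nonempty (BasedFunctor.comp (AlgSt.ofOverCat T) (Stk.ofPshMap ((pyon S).map γ)) ≅
        BasedFunctor.comp (AlgSt.overMap γ) (AlgSt.ofOverCat V)) := fun γ =>
    ⟨isoOfSec _ _ fun z => by
      rw [secOf_comp_ofPshMap]
      rfl⟩
  obtain ⟨U, hU, yU, ⟨j⟩⟩ := hc A sA (BasedFunctor.comp (AlgSt.overMap g) (BasedFunctor.comp (AlgSt.ofOverCat V) y)) D hD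
    fun p hp' => by
      obtain ⟨q, hq⟩ := hp p hp'
      let ι : Over.mk ((Spec (CommRingCat.of A)).fromSpecResidueField p ≫ sA) ⟶ Over.mk sA :=
        Over.homMk ((Spec (CommRingCat.of A)).fromSpecResidueField p) rfl
      obtain ⟨k⟩ := iso (ι ≫ g)
      have hq' : mapOf (BasedFunctor.comp (Stk.ofPshMap q.hom) (BasedFunctor.comp e (FibCat.fpFst y f))) =
          (pyon S).map (ι ≫ g) := by
        rw [mapOf_comp, mapOf_ofPshMap]
        exact congrArg (fun m => m.hom) hq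
      refine ⟨BasedFunctor.comp (AlgSt.ofOverCat _) (BasedFunctor.comp (Stk.ofPshMap q.hom)
        (BasedFunctor.comp e (FibCat.fpSnd y f))), ⟨?_⟩⟩
      let T := BasedFunctor.comp (AlgSt.ofOverCat (Over.mk ((Spec (CommRingCat.of A)).fromSpecResidueField p ≫ sA)))
        (BasedFunctor.comp (Stk.ofPshMap q.hom) e)
      refine (show BasedFunctor.comp T (BasedFunctor.comp (FibCat.fpSnd y f) f) ≅ _ from
        ((Stk.restr T _).mapIso (FibCat.fpIso y f).symm) ≪≫ ?_)
      refine (show BasedFunctor.comp (BasedFunctor.comp (AlgSt.ofOverCat _)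
        (BasedFunctor.comp (Stk.ofPshMap q.hom) (BasedFunctor.comp e (FibCat.fpFst y f)))) y ≅ _ from
          (post _ y).mapIso (((Stk.restr (AlgSt.ofOverCat _) _).mapIso
            ((mapOfIso _).symm ≪≫ eqToIso (congrArg Stk.ofPshMap hq'))) ≪≫ k) ≪≫ Iso.refl _)
  refine ⟨U, hU, ?_⟩
  let γ : Over.mk (U.ι ≫ sA) ⟶ Over.mk sA := Over.homMk U.ι rfl
  obtain ⟨ei, hei, -, ⟨r⟩⟩ := isEquivOver_symm he
  let T' := Over.mk (U.ι ≫ sA)
  let b := Stk.ofPshMap ((pyon S).map (γ ≫ g))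
  have i0 : b ≅ BasedFunctor.comp (AlgSt.toOverCat T') (BasedFunctor.comp (AlgSt.overMap γ)
      (BasedFunctor.comp (AlgSt.overMap g) (AlgSt.ofOverCat V))) :=
    isoOfSec _ _ fun z => (secOf_ofPshMap _ z).trans (ULift.ext _ _ (by
      show z.sec.down ≫ γ ≫ g = 𝟙 _ ≫ (z.sec.down ≫ γ) ≫ g
      rw [Category.id_comp, Category.assoc]))
  have i1 : BasedFunctor.comp b y ≅ BasedFunctor.comp (BasedFunctor.comp (AlgSt.toOverCat T') yU) f :=
    (post _ y).mapIso i0 ≪≫ (Stk.restr (AlgSt.toOverCat T') _).mapIso j.symm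
  let L := FibCat.fpLift b (BasedFunctor.comp (AlgSt.toOverCat T') yU) i1
  let m : (yon S).obj T' ⟶ (⟨P, hP⟩ : Sp S) := ObjectProperty.homMk (mapOf (BasedFunctor.comp L ei))
  refine ⟨m, ObjectProperty.hom_ext _ ?_⟩
  show mapOf (BasedFunctor.comp L ei) ≫ mapOf (BasedFunctor.comp e (FibCat.fpFst y f)) = (pyon S).map (γ ≫ g)
  rw [← mapOf_comp, ← mapOf_ofPshMap ((pyon S).map (γ ≫ g))]
  exact mapOf_congr ((post _ (FibCat.fpFst y f)).mapIso ((Stk.restr L _).mapIso r))

end Groth.Agent.DenseLiftQC
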