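import Groth.Agent.DenseLiftQC.Stack
import Groth.Agent.DenseLiftQC.Imm
import Groth.Agent.QA.IndQAComp
import Groth.Agent.AlgStLib.Misc1
import Groth.Agent.AlgSpLib.FpqcBase
import Groth.Agent.FpqcDescent.Immersion

/-!
# Monomorphisms of stacks with the lifting property for discrete valuation rings are immersions
-/

set_option autoImplicit false
set_option backward.isDefEq.respectTransparency false
set_option backward.isDefEq.respectTransparency.types false
universe u

noncomputable section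

namespace Groth.Agent.DenseLiftQC

open CategoryTheory CategoryTheory.Limits AlgebraicGeometry Opposite Groth.Agent.FibCatRep
  Groth.Agent.FibCat2Misc Groth.Agent.AlgSpLib Groth.Agent.StkBasic TopologicalSpace Groth.Agent.AlgStLib
open _root_.AlgSp _root_.AlgSt

variable {S : Scheme.{u}}

theorem bcStable_qcImm : BCStable (S := S) (RepWith (@IsImmersion ⊓ @QuasiCompact)) :=
  fun _ _ _ _ _ _ _ _ _ _ _ _ sq h => repWith_baseChange sq h

theorem isLocalOnBase_qcImm :
    IsLocalOnBase (IsFppfCover (S := S)) (RepWith (@IsImmersion ⊓ @QuasiCompact)) :=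
  isLocalOnBase_fppf (isLocalOnBase_repWith _ fun _ _ q h =>
    have : IsImmersion q := h.1
    QA.IndQA.of_isImmersion q)

/-- quasi-compact monomorphisms of spaces with the lifting property are immersions -/
theorem repWith_qcImm_of_dvrLift {F : Sp S} (hF : IsAlgSpace F) {V : Over S} [IsLocallyNoetherian V.left]
    (a : F ⟶ (yon S).obj V) [Mono a] (ha : LocP @LocallyOfFinitePresentation a)
    (hq : AlgSp.IsQuasiCompactMor a)
    (hd : ∀ (A : Type u) [CommRing A] [IsDomain A] [IsDiscreteValuationRing A] (K : Type u) [Field K] [Algebra A K]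
      [IsFractionRing A K] (sA : Spec (CommRingCat.of A) ⟶ S) (g : Over.mk sA ⟶ V),
      (∃ q : (yon S).obj (Over.mk (Spec.map (CommRingCat.ofHom (algebraMap A K)) ≫ sA)) ⟶ F,
        q ≫ a = (yon S).map ((Over.homMk (Spec.map (CommRingCat.ofHom (algebraMap A K))) rfl :
          Over.mk (Spec.map (CommRingCat.ofHom (algebraMap A K)) ≫ sA) ⟶ Over.mk sA) ≫ g)) →
      (∃ q : (yon S).obj (Over.mk (Spec.map (CommRingCat.ofHom (IsLocalRing.residue A)) ≫ sA)) ⟶ F,
        q ≫ a = (yon S).map ((Over.homMk (Spec.map (CommRingCat.ofHom (IsLocalRing.residue A))) rfl :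
          Over.mk (Spec.map (CommRingCat.ofHom (IsLocalRing.residue A)) ≫ sA) ⟶ Over.mk sA) ≫ g)) →
      ∃ l : (yon S).obj (Over.mk sA) ⟶ F, l ≫ a = (yon S).map g) :
    RepWith (@IsImmersion ⊓ @QuasiCompact) a := by
  have hV := IsAlgSpace.yon_obj (S := S) V
  have hft : LocP @LocallyOfFiniteType a := fun X Y c d k hc' hd e => by
    have : LocallyOfFinitePresentation k.left := ha c d k hc' hd e
    show LocallyOfFiniteType k.left
    infer_instance
  have hl : LocP (@LocallyQuasiFinite ⊓ @LocallyOfFiniteType : MorphismProperty Scheme.{u}) a :=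
    UnivInjMor.lqf_of_mono hF hV a hft
  obtain ⟨W, ⟨φ⟩⟩ := LqfRep.exists_iso_yon_of_lqf_separated hF a hl (LqfRep.isSeparatedMor_of_mono _)
  obtain ⟨h, hh⟩ := exists_map_eq (φ.inv ≫ a)
  have hlfp : LocallyOfFinitePresentation h.left :=
    ha φ.inv (𝟙 _) h (repWith_of_isIso _) repWith_id' (by rw [Category.comp_id, hh])
  have : Mono ((yon S).map h) := hh ▸ inferInstance
  have : Mono h := (yon S).mono_of_mono_map inferInstance
  have : Mono h.left := mono_left h
  have := respectsIso_quasiCompact (S := S)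
  have hqh : AlgSp.IsQuasiCompactMor ((yon S).map h) :=
    hh ▸ (MorphismProperty.cancel_left_of_respectsIso (AlgSp.IsQuasiCompactMor (S := S)) φ.inv a).2 hq
  have : QuasiCompact h.left := (repWith_yon_iff h).1
    ((isQuasiCompactMor_iff_repWith (IsAlgSpace.yon_obj W) hV (representable_yon_map h)).1 hqh)
  have : IsImmersion h.left := isImmersion_of_hasDvrLift h.left fun A _ _ _ g h0 h1 => by
    let g' : Over.mk (g ≫ V.hom) ⟶ V := Over.homMk g rfl
    have key : ∀ (L : Type u) [Field L] (c : Spec (CommRingCat.of L) ⟶ Spec (CommRingCat.of A)),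
        g (c (IsLocalRing.closedPoint L)) ∈ Set.range h.left →
        ∃ q : (yon S).obj (Over.mk (c ≫ g ≫ V.hom)) ⟶ F,
          q ≫ a = (yon S).map ((Over.homMk c rfl : Over.mk (c ≫ g ≫ V.hom) ⟶ Over.mk (g ≫ V.hom)) ≫ g') := by
      rintro L _ c ⟨z, hz⟩
      obtain ⟨q, hq⟩ := exists_lift_field h.left (c ≫ g) z (hz.trans (Scheme.Hom.comp_apply _ _ _).symm)
      refine ⟨(yon S).map (Over.homMk q (by
        show q ≫ W.hom = c ≫ g ≫ V.hom
        rw [← Over.w h, reassoc_of% hq]) : _ ⟶ W) ≫ φ.inv, ?_⟩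
      rw [Category.assoc, ← hh, ← Functor.map_comp]
      congr 1
      exact Over.OverMorphism.ext hq
    obtain ⟨l, hl⟩ := hd A (FractionRing A) (g ≫ V.hom) g'
      (key _ _ (by
        convert h0 using 2
        exact PrimeSpectrum.ext (show (IsLocalRing.maximalIdeal (FractionRing A)).comap
          (algebraMap A (FractionRing A)) = ⊥ by
            rw [IsLocalRing.maximalIdeal_eq_bot]
            exact Ideal.comap_bot_of_injective _ (IsFractionRing.injective A (FractionRing A)))))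
      (key _ _ (by
        convert h1 using 2
        exact IsLocalRing.comap_closedPoint (IsLocalRing.residue A)))
    obtain ⟨m, hm⟩ := exists_map_eq (l ≫ φ.hom)
    refine ⟨m.left, ?_⟩
    have : m ≫ h = g' := (yon S).map_injective (by
      rw [Functor.map_comp, hm, hh, Category.assoc, Iso.hom_inv_id_assoc, hl])
    exact congrArg (fun k => k.left) this
  exact repWith_baseChange
    (IsPullback.of_horiz_isIso ⟨by rw [Category.comp_id, hh, Iso.hom_inv_id_assoc]⟩ :
      IsPullback φ.hom a ((yon S).map h) (𝟙 _))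
    ((repWith_yon_iff h).2 ⟨inferInstance, inferInstance⟩)

variable {𝒳 𝒴 : AlgSt.Cat S}

local notation "AS" => IsAlgStack Scheme.fppfPrecoverage

theorem repWith_qcImm_of_lifts (h𝒳 : AS 𝒳) (h𝒴 : AS 𝒴)
    (hnoeth : AlgSt.SmoothLocally (fun X => IsLocallyNoetherian X) 𝒳) (f : 𝒴 ⥤ᵇ 𝒳)
    (hlfp : RepByAlgSpWith (LocP @LocallyOfFinitePresentation) f) (ha : AlgSt.IsMono f)
    (hb : ∀ (A : Type u) [CommRing A] [IsDomain A] [IsDiscreteValuationRing A] (K : Type u) [Field K] [Algebra A K]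
      [IsFractionRing A K] (sA : Spec (CommRingCat.of A) ⟶ S) (a : FibCat.overCat (Over.mk sA) ⥤ᵇ 𝒳),
      (∃ yK : FibCat.overCat (Over.mk (Spec.map (CommRingCat.ofHom (algebraMap A K)) ≫ sA)) ⥤ᵇ 𝒴,
          Nonempty (BasedFunctor.comp yK f ≅ BasedFunctor.comp (AlgSt.overMap (Over.homMk (Spec.map (CommRingCat.ofHom (algebraMap A K))) rfl : Over.mk ((Spec.map (CommRingCat.ofHom (algebraMap A K))) ≫ sA) ⟶ Over.mk sA)) a)) →
      (∃ yk : FibCat.overCat (Over.mk (Spec.map (CommRingCat.ofHom (IsLocalRing.residue A)) ≫ sA)) ⥤ᵇ 𝒴,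
          Nonempty (BasedFunctor.comp yk f ≅ BasedFunctor.comp (AlgSt.overMap (Over.homMk (Spec.map (CommRingCat.ofHom (IsLocalRing.residue A))) rfl : Over.mk ((Spec.map (CommRingCat.ofHom (IsLocalRing.residue A))) ≫ sA) ⟶ Over.mk sA)) a)) →
      ∃ y : FibCat.overCat (Over.mk sA) ⥤ᵇ 𝒴, Nonempty (BasedFunctor.comp y f ≅ a))
    (hc : ∀ (A : Type u) [CommRing A] [IsDomain A] (sA : Spec (CommRingCat.of A) ⟶ S)
      (a : FibCat.overCat (Over.mk sA) ⥤ᵇ 𝒳) (D : Set ↥(Spec (CommRingCat.of A))), Dense D →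
      (∀ p ∈ D, ∃ yp : FibCat.overCat (Over.mk ((Spec (CommRingCat.of A)).fromSpecResidueField p ≫ sA)) ⥤ᵇ 𝒴,
          Nonempty (BasedFunctor.comp yp f ≅ BasedFunctor.comp (AlgSt.overMap (Over.homMk ((Spec (CommRingCat.of A)).fromSpecResidueField p) rfl : Over.mk (((Spec (CommRingCat.of A)).fromSpecResidueField p) ≫ sA) ⟶ Over.mk sA)) a)) →
      ∃ U : (Spec (CommRingCat.of A)).Opens, (U : Set ↥(Spec (CommRingCat.of A))).Nonempty ∧
        ∃ yU : FibCat.overCat (Over.mk (U.ι ≫ sA)) ⥤ᵇ 𝒴,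
          Nonempty (BasedFunctor.comp yU f ≅ BasedFunctor.comp (AlgSt.overMap (Over.homMk (U.ι) rfl : Over.mk ((U.ι) ≫ sA) ⟶ Over.mk sA)) a)) :
    RepByAlgSpWith (RepWith (@IsImmersion ⊓ @QuasiCompact)) f := by
  have hqc := repWith_qc_of_denseLift h𝒳 h𝒴 hnoeth f hlfp ha hc
  obtain ⟨V, y, hy, hy'⟩ := exists_atlas_sp h𝒳
  have : IsLocallyNoetherian V.left :=
    hnoeth V (BasedFunctor.comp (AlgSt.ofOverCat V) y) ((repWith_ofOverCat_iff _ y).2 hy)
  have := respectsIso_locP (S := S) @LocallyOfFinitePresentation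
  have := respectsIso_quasiCompact (S := S)
  obtain ⟨P, e, he, hP, hPA, ⟨hmono, hl⟩, hq⟩ :=
    (repWith_iff ((MorphismProperty.monomorphisms (AlgSp.Sp S) ⊓ LocP @LocallyOfFinitePresentation) ⊓
      AlgSp.IsQuasiCompactMor) f).1 (repWith_and (repWith_and ha hlfp) hqc) V y
  let a : (⟨P, hP⟩ : Sp S) ⟶ (spOf V).obj := ObjectProperty.homMk (prjMap e)
  have : Mono (a : (⟨P, hP⟩ : Sp S) ⟶ (yon S).obj V) := hmono
  refine (repWith_iff_exists_model bcStable_qcImm isLocalOnBase_qcImm h𝒴 h𝒳 f (spOf V) y (repWith_flat_of_smooth hy)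
    (repWith_lfp_of_smooth hy) hy').2 ⟨⟨⟨P, hP⟩, hPA⟩, ObjectProperty.homMk a, e, he, ⟨(mapOfIso _).symm⟩, ?_⟩
  refine repWith_qcImm_of_dvrLift hPA a hl hq fun A _ _ _ K _ _ _ sA g hqK hqk => ?_
  -- maps from a slice into the chart
  have iso : ∀ {T : Over S} (γ : T ⟶ V),
      Nonempty (BasedFunctor.comp (AlgSt.ofOverCat T) (Stk.ofPshMap ((pyon S).map γ)) ≅
        BasedFunctor.comp (AlgSt.overMap γ) (AlgSt.ofOverCat V)) := fun γ =>
    ⟨isoOfSec _ _ fun z => by
      rw [secOf_comp_ofPshMap]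
      rfl⟩
  have conv : ∀ {T : Scheme.{u}} (c : T ⟶ Spec (CommRingCat.of A)),
      (∃ q : (yon S).obj (Over.mk (c ≫ sA)) ⟶ (⟨P, hP⟩ : Sp S), q ≫ a =
        (yon S).map ((Over.homMk c rfl : Over.mk (c ≫ sA) ⟶ Over.mk sA) ≫ g)) →
      ∃ yc : FibCat.overCat (Over.mk (c ≫ sA)) ⥤ᵇ 𝒴, Nonempty (BasedFunctor.comp yc f ≅
        BasedFunctor.comp (AlgSt.overMap (Over.homMk c rfl : Over.mk (c ≫ sA) ⟶ Over.mk sA))
          (BasedFunctor.comp (AlgSt.overMap g) (BasedFunctor.comp (AlgSt.ofOverCat V) y))) := by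
    rintro T c ⟨q, hq⟩
    let ι : Over.mk (c ≫ sA) ⟶ Over.mk sA := Over.homMk c rfl
    obtain ⟨k⟩ := iso (ι ≫ g)
    have hq' : mapOf (BasedFunctor.comp (Stk.ofPshMap q.hom) (BasedFunctor.comp e (FibCat.fpFst y f))) =
        (pyon S).map (ι ≫ g) := by
      rw [mapOf_comp, mapOf_ofPshMap]
      exact congrArg (fun m => m.hom) hq
    refine ⟨BasedFunctor.comp (AlgSt.ofOverCat _) (BasedFunctor.comp (Stk.ofPshMap q.hom)
      (BasedFunctor.comp e (FibCat.fpSnd y f))), ⟨?_⟩⟩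
    let T' := BasedFunctor.comp (AlgSt.ofOverCat (Over.mk (c ≫ sA)))
      (BasedFunctor.comp (Stk.ofPshMap q.hom) e)
    refine (show BasedFunctor.comp T' (BasedFunctor.comp (FibCat.fpSnd y f) f) ≅ _ from
      ((Stk.restr T' _).mapIso (FibCat.fpIso y f).symm) ≪≫ ?_)
    exact (show BasedFunctor.comp (BasedFunctor.comp (AlgSt.ofOverCat _)
      (BasedFunctor.comp (Stk.ofPshMap q.hom) (BasedFunctor.comp e (FibCat.fpFst y f)))) y ≅ _ from
        (post _ y).mapIso (((Stk.restr (AlgSt.ofOverCat _) _).mapIso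
          ((mapOfIso _).symm ≪≫ eqToIso (congrArg Stk.ofPshMap hq'))) ≪≫ k) ≪≫ Iso.refl _)
  obtain ⟨yA, ⟨j⟩⟩ := hb A K sA _ (conv _ hqK) (conv _ hqk)
  obtain ⟨ei, hei, -, ⟨r⟩⟩ := isEquivOver_symm he
  let T' := Over.mk sA
  let b := Stk.ofPshMap ((pyon S).map g)
  have i0 : b ≅ BasedFunctor.comp (AlgSt.toOverCat T')
      (BasedFunctor.comp (AlgSt.overMap g) (AlgSt.ofOverCat V)) :=
    isoOfSec _ _ fun z => (secOf_ofPshMap _ z).trans (ULift.ext _ _ (by
      show z.sec.down ≫ g = 𝟙 _ ≫ z.sec.down ≫ g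
      rw [Category.id_comp]))
  have i1 : BasedFunctor.comp b y ≅ BasedFunctor.comp (BasedFunctor.comp (AlgSt.toOverCat T') yA) f :=
    (post _ y).mapIso i0 ≪≫ (Stk.restr (AlgSt.toOverCat T') _).mapIso j.symm
  let L := FibCat.fpLift b (BasedFunctor.comp (AlgSt.toOverCat T') yA) i1
  let m : (yon S).obj T' ⟶ (⟨P, hP⟩ : Sp S) := ObjectProperty.homMk (mapOf (BasedFunctor.comp L ei))
  refine ⟨m, ObjectProperty.hom_ext _ ?_⟩
  show mapOf (BasedFunctor.comp L ei) ≫ mapOf (BasedFunctor.comp e (FibCat.fpFst y f)) = (pyon S).map g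
  rw [← mapOf_comp, ← mapOf_ofPshMap ((pyon S).map g)]
  exact mapOf_congr ((post _ (FibCat.fpFst y f)).mapIso ((Stk.restr L _).mapIso r))

end Groth.Agent.DenseLiftQC
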